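import Groth.Agent.Lib.QCoh.PullbackSections
import Groth.Agent.Lib.FittSheaf.Pullback
import Groth.Prelude.Def_Coh
import Mathlib.Algebra.DualNumber
import Mathlib.AlgebraicGeometry.Morphisms.Flat

/-!
# Sections of a pullback to the trivial first-order deformation
-/

set_option autoImplicit false
set_option linter.style.haveILetI false
set_option backward.isDefEq.respectTransparency false
universe u

noncomputable section

open CategoryTheory CategoryTheory.Limits AlgebraicGeometry Opposite TopologicalSpace TensorProduct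

namespace GrothLib.AutEps4

section Ring

variable {k : Type u} [CommRing k] {A B R S : CommRingCat.{u}} {α : A ⟶ R} {b : A ⟶ B} {γ : R ⟶ S} {β : B ⟶ S}
  (h : IsPushout α b γ β) (eA : A ≅ CommRingCat.of k) (eB : B ≅ CommRingCat.of (DualNumber k))
  (hb : b ≫ eB.hom = eA.hom ≫ CommRingCat.ofHom (algebraMap k (DualNumber k)))

include h hb in
theorem bijective_pair :
    Function.Bijective fun ab : R × R => γ ab.1 + γ ab.2 * β (eB.inv (DualNumber.eps : DualNumber k)) := by
  let η : S := β (eB.inv (DualNumber.eps : DualNumber k))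
  have hη : η * η = 0 := by
    show β _ * β _ = 0
    rw [← map_mul, ← map_mul, DualNumber.eps_mul_eps, map_zero, map_zero]
  letI : Algebra R S := γ.hom.toAlgebra
  let χ : DualNumber R →ₐ[R] S := DualNumber.lift ⟨(Algebra.ofId R S, η), hη, fun _ => Commute.all _ _⟩
  letI : Algebra k R := ((α.hom).comp eA.inv.hom).toAlgebra
  let m : DualNumber k →ₐ[k] DualNumber R :=
    DualNumber.lift ⟨(IsScalarTower.toAlgHom k R (DualNumber R) |>.comp (Algebra.ofId k R),
      (DualNumber.eps : DualNumber R)), DualNumber.eps_mul_eps, fun _ => Commute.all _ _⟩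
  let ψ : S ⟶ CommRingCat.of (DualNumber R) :=
    h.desc (CommRingCat.ofHom (algebraMap R (DualNumber R))) (eB.hom ≫ CommRingCat.ofHom m.toRingHom) (by
      rw [← Category.assoc b, hb, Category.assoc]
      refine CommRingCat.hom_ext (RingHom.ext fun x => ?_)
      show algebraMap R (DualNumber R) (α x) = m (algebraMap k (DualNumber k) (eA.hom x))
      rw [m.commutes]
      show _ = algebraMap R (DualNumber R) (α (eA.inv (eA.hom x)))
      rw [Iso.hom_inv_id_apply])
  have hψγ : ∀ r, ψ (γ r) = algebraMap R (DualNumber R) r := fun r =>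
    ConcreteCategory.congr_hom (h.inl_desc _ _ _) r
  have hψη : ψ η = (DualNumber.eps : DualNumber R) := by
    refine (ConcreteCategory.congr_hom (h.inr_desc _ _ _) _).trans ?_
    show m (eB.hom (eB.inv (DualNumber.eps : DualNumber k))) = _
    rw [Iso.inv_hom_id_apply]
    exact DualNumber.lift_apply_eps _
  have hχψ : ψ ≫ CommRingCat.ofHom χ.toRingHom = 𝟙 S := by
    refine h.hom_ext ?_ ?_
    · ext r
      show χ (ψ (γ r)) = γ r
      rw [hψγ]
      exact χ.commutes r
    · refine (cancel_epi eB.inv).1 ?_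
      refine CommRingCat.hom_ext (RingHom.ext fun z => ?_)
      show χ (ψ (β (eB.inv z))) = β (eB.inv z)
      have hz : z = algebraMap k (DualNumber k) (TrivSqZeroExt.fst z) +
          algebraMap k (DualNumber k) (TrivSqZeroExt.snd z) * (DualNumber.eps : DualNumber k) := by
        refine TrivSqZeroExt.ext ?_ ?_ <;> simp [TrivSqZeroExt.algebraMap_eq_inl]
      have hk : ∀ c : k, β (eB.inv (algebraMap k (DualNumber k) c)) = γ (α (eA.inv c)) := fun c => by
        have e1 : eB.inv (algebraMap k (DualNumber k) c) = b (eA.inv c) := by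
          have h2 := ConcreteCategory.congr_hom hb (eA.inv c)
          change eB.hom (b (eA.inv c)) = algebraMap k (DualNumber k) (eA.hom (eA.inv c)) at h2
          rw [Iso.inv_hom_id_apply] at h2
          have h3 := congrArg eB.inv h2
          rw [Iso.hom_inv_id_apply] at h3
          exact h3.symm
        rw [e1]
        exact (ConcreteCategory.congr_hom h.w (eA.inv c)).symm
      rw [hz]
      simp only [map_add, map_mul, hk, hψγ]
      rw [show χ (ψ η) = η by rw [hψη]; exact DualNumber.lift_apply_eps _]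
      rw [AlgHom.commutes, AlgHom.commutes]
      rfl
  constructor
  · rintro ⟨a, c⟩ ⟨a', c'⟩ e
    have e' := congrArg ψ e
    simp only [map_add, map_mul, hψγ] at e'
    change algebraMap R (DualNumber R) a + algebraMap R (DualNumber R) c * ψ η =
      algebraMap R (DualNumber R) a' + algebraMap R (DualNumber R) c' * ψ η at e'
    rw [hψη] at e'
    have e1 := congrArg TrivSqZeroExt.fst e'
    have e2 := congrArg TrivSqZeroExt.snd e'
    simp [TrivSqZeroExt.algebraMap_eq_inl] at e1 e2
    rw [e1, e2]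
  · intro s
    refine ⟨(TrivSqZeroExt.fst (ψ s), TrivSqZeroExt.snd (ψ s)), ?_⟩
    refine Eq.trans ?_ (ConcreteCategory.congr_hom hχψ s)
    show _ = χ (ψ s)
    have hs : ψ s = algebraMap R (DualNumber R) (TrivSqZeroExt.fst (ψ s)) +
        algebraMap R (DualNumber R) (TrivSqZeroExt.snd (ψ s)) * (DualNumber.eps : DualNumber R) := by
      refine TrivSqZeroExt.ext ?_ ?_ <;> simp [TrivSqZeroExt.algebraMap_eq_inl]
    conv_rhs => rw [hs]
    rw [map_add, map_mul, AlgHom.commutes, AlgHom.commutes,
      show χ (DualNumber.eps : DualNumber R) = η from DualNumber.lift_apply_eps _]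
    rfl

end Ring

/-- Coordinates of a base change along an algebra free on `1` and `η`. -/
theorem existsUnique_tmul {R S M : Type u} [CommRing R] [CommRing S] [Algebra R S] [AddCommGroup M] [Module R M]
    (η : S) (hb : Function.Bijective fun ab : R × R => algebraMap R S ab.1 + algebraMap R S ab.2 * η)
    (z : S ⊗[R] M) : ∃! ab : M × M, z = 1 ⊗ₜ ab.1 + η ⊗ₜ ab.2 := by
  let L : R × R →ₗ[R] S :=
    { toFun := fun ab => algebraMap R S ab.1 + algebraMap R S ab.2 * η
      map_add' := fun x y => by simp only [Prod.fst_add, Prod.snd_add, map_add]; ring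
      map_smul' := fun r x => by
        show algebraMap R S (r * x.1) + algebraMap R S (r * x.2) * η = r • (algebraMap R S x.1 + algebraMap R S x.2 * η)
        rw [Algebra.smul_def, map_mul, map_mul]; ring }
  let e := LinearEquiv.ofBijective L hb
  let c₁ : S ⊗[R] M →ₗ[R] M :=
    (TensorProduct.lid R M).toLinearMap ∘ₗ ((LinearMap.fst R R R ∘ₗ e.symm.toLinearMap).rTensor M)
  let c₂ : S ⊗[R] M →ₗ[R] M :=
    (TensorProduct.lid R M).toLinearMap ∘ₗ ((LinearMap.snd R R R ∘ₗ e.symm.toLinearMap).rTensor M)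
  have h1 : e.symm 1 = (1, 0) := e.symm_apply_eq.2 (by simp [e, L])
  have h2 : e.symm η = (0, 1) := e.symm_apply_eq.2 (by simp [e, L])
  have key : ∀ z : S ⊗[R] M, z = 1 ⊗ₜ c₁ z + η ⊗ₜ c₂ z := by
    intro z
    induction z using TensorProduct.induction_on with
    | zero => simp
    | add x y hx hy =>
      simp only [map_add, TensorProduct.tmul_add]
      conv_lhs => rw [hx, hy]
      abel
    | tmul s m =>
      have hs : s = algebraMap R S (e.symm s).1 + algebraMap R S (e.symm s).2 * η :=
        (e.apply_symm_apply s).symm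
      simp only [c₁, c₂, LinearMap.comp_apply, LinearMap.rTensor_tmul, LinearEquiv.coe_coe,
        TensorProduct.lid_tmul, LinearMap.fst_apply, LinearMap.snd_apply, TensorProduct.tmul_smul]
      rw [TensorProduct.smul_tmul', TensorProduct.smul_tmul', ← TensorProduct.add_tmul]
      congr 1
      simpa [Algebra.smul_def] using hs
  refine ⟨(c₁ z, c₂ z), key z, ?_⟩
  rintro ⟨a, b⟩ rfl
  simp [c₁, c₂, h1, h2]

variable {k : Type u} [Field k] {X₀ Xε : Scheme.{u}} {x : X₀ ⟶ Spec (CommRingCat.of k)}
  {q : Xε ⟶ X₀} {p : Xε ⟶ Spec (CommRingCat.of (DualNumber k))}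
  (hsq : IsPullback q p x (Spec.map (CommRingCat.ofHom (algebraMap k (DualNumber k)))))

/-- The infinitesimal as a global function. -/
def eta (p : Xε ⟶ Spec (CommRingCat.of (DualNumber k))) : Γ(Xε, ⊤) :=
  p.appTop ((Scheme.ΓSpecIso (CommRingCat.of (DualNumber k))).inv (DualNumber.eps : DualNumber k))

include hsq in
/-- On an affine open a section of the pullback is uniquely `pull a + η • pull b`. -/
theorem existsUnique_decomp (E : X₀.Modules) [E.IsQuasicoherent] {V : X₀.Opens} (hV : IsAffineOpen V)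
    (t : Γ((Scheme.Modules.pullback q).obj E, q ⁻¹ᵁ V)) :
    ∃! ab : Γ(E, V) × Γ(E, V),
      t = (show Γ((Scheme.Modules.pullback q).obj E, q ⁻¹ᵁ V) from
          ((Scheme.Modules.pullbackPushforwardAdjunction q).unit.app E).app V ab.1) +
        (Xε.presheaf.map (homOfLE (le_top : q ⁻¹ᵁ V ≤ ⊤)).op (eta p) : Γ(Xε, q ⁻¹ᵁ V)) •
          (show Γ((Scheme.Modules.pullback q).obj E, q ⁻¹ᵁ V) from
            ((Scheme.Modules.pullbackPushforwardAdjunction q).unit.app E).app V ab.2) := by
  haveI : IsAffineHom q :=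
    MorphismProperty.of_isPullback (P := @IsAffineHom) hsq.flip inferInstance
  have hP : IsAffineOpen (q ⁻¹ᵁ V) := hV.preimage q
  have hU : q ⁻¹ᵁ V = q ⁻¹ᵁ V ⊓ p ⁻¹ᵁ ⊤ := (inf_of_le_left le_top).symm
  have hpo := (isIso_pushoutSection_iff hsq (US := ⊤) (UT := ⊤) (UX := V) le_top le_top hU).1
    (isIso_pushoutSection_of_isAffineOpen hsq (US := ⊤) (UT := ⊤) (UX := V) le_top le_top hU
      (isAffineOpen_top _) (isAffineOpen_top _) hV)
  have hb := bijective_pair (k := k) hpo (Scheme.ΓSpecIso _) (Scheme.ΓSpecIso _) (by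
    rw [← Scheme.ΓSpecIso_naturality]
    congr 1)
  letI : Algebra Γ(X₀, V) Γ(Xε, q ⁻¹ᵁ V) := (q.appLE V (q ⁻¹ᵁ V) le_rfl).hom.toAlgebra
  have halg : algebraMap Γ(X₀, V) Γ(Xε, q ⁻¹ᵁ V) = (q.appLE V (q ⁻¹ᵁ V) le_rfl).hom := rfl
  let η : Γ(Xε, q ⁻¹ᵁ V) := Xε.presheaf.map (homOfLE (le_top : q ⁻¹ᵁ V ≤ ⊤)).op (eta p)
  have hS := QCoh.bijective_sectionsMap q E (le_refl (q ⁻¹ᵁ V)) halg hV hP
  obtain ⟨z, rfl⟩ := hS.2 t
  have hps : ∀ m : Γ(E, V), QCoh.pullSec q E (le_refl (q ⁻¹ᵁ V)) m =
      ((Scheme.Modules.pullbackPushforwardAdjunction q).unit.app E).app V m := fun m => by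
    show ((Scheme.Modules.pullback q).obj E).presheaf.map (homOfLE (le_refl (q ⁻¹ᵁ V))).op _ = _
    rw [show (homOfLE (le_refl (q ⁻¹ᵁ V))).op = 𝟙 _ from rfl, CategoryTheory.Functor.map_id]
    rfl
  obtain ⟨ab, hab, huniq⟩ := existsUnique_tmul η hb z
  refine ⟨ab, ?_, fun cd hcd => huniq cd (hS.1 ?_)⟩
  · dsimp only
    rw [hab, map_add, QCoh.sectionsMap_tmul, QCoh.sectionsMap_tmul, one_smul, hps, hps]
  · dsimp only at hcd ⊢
    rw [hcd, map_add, QCoh.sectionsMap_tmul, QCoh.sectionsMap_tmul, one_smul, hps, hps]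

end GrothLib.AutEps4
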