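import Groth.Agent.Lib.AutEps4.Decomp
import Groth.Agent.Lib.Euler.Scalar
import Groth.Agent.Lib.IdealModSec.Basic
import Groth.Agent.Lib.Stein.General

/-!
# Infinitesimal automorphisms of the pullback of a module
-/

set_option autoImplicit false
set_option maxHeartbeats 800000
set_option linter.style.haveILetI false
set_option backward.isDefEq.respectTransparency false
universe u

noncomputable section

open CategoryTheory CategoryTheory.Limits AlgebraicGeometry Opposite TopologicalSpace
open GrothLib.Euler (smulMod smulMod_app)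

namespace GrothLib.AutEps4

variable {k : Type u} [Field k] {X₀ Xε : Scheme.{u}} {x : X₀ ⟶ Spec (CommRingCat.of k)}
  (E : X₀.Modules) (q : Xε ⟶ X₀) (p : Xε ⟶ Spec (CommRingCat.of (DualNumber k))) (i : X₀ ⟶ Xε)

/-- The pullback. -/
abbrev E' : Xε.Modules := (Scheme.Modules.pullback q).obj E

/-- Multiplication by the infinitesimal. -/
abbrev mEta : E' E q ⟶ E' E q := smulMod (E' E q) (eta p)

theorem smulMod_natural {Z : Scheme.{u}} {M N : Z.Modules} (φ : M ⟶ N) (r : Coh.Γtop Z) :
    φ ≫ smulMod N r = smulMod M r ≫ φ :=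
  Scheme.Modules.hom_ext _ _ fun U => ConcreteCategory.hom_ext _ _ fun m => by
    exact (Scheme.Modules.Hom.app_smul φ _ m).symm

theorem mEta_mEta : mEta E q p ≫ mEta E q p = 0 := by
  refine Scheme.Modules.hom_ext _ _ fun U => ?_
  ext t
  show (mEta E q p).app U ((mEta E q p).app U t) = 0
  rw [smulMod_app, smulMod_app, smul_smul, ← map_mul]
  have h : eta p * eta p = (0 : Γ(Xε, ⊤)) := by
    rw [eta, ← map_mul, ← map_mul, DualNumber.eps_mul_eps, map_zero, map_zero]
  rw [h, map_zero, zero_smul]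

/-- The unit. -/
abbrev j₀ : E ⟶ (Scheme.Modules.pushforward q).obj (E' E q) :=
  (Scheme.Modules.pullbackPushforwardAdjunction q).unit.app E

/-- The unit times the infinitesimal. -/
abbrev j₁ : E ⟶ (Scheme.Modules.pushforward q).obj (E' E q) :=
  j₀ E q ≫ (Scheme.Modules.pushforward q).map (mEta E q p)

/-- Restriction along the closed fibre. -/
abbrev red : (Scheme.Modules.pushforward q).obj (E' E q) ⟶
    (Scheme.Modules.pushforward q).obj ((Scheme.Modules.pushforward i).obj
      ((Scheme.Modules.pullback i).obj (E' E q))) :=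
  (Scheme.Modules.pushforward q).map ((Scheme.Modules.pullbackPushforwardAdjunction i).unit.app (E' E q))

variable {q p i}
variable (hsq : IsPullback q p x (Spec.map (CommRingCat.ofHom (algebraMap k (DualNumber k)))))
  (hiq : i ≫ q = 𝟙 X₀)
  (hip : i ≫ p = x ≫ Spec.map (CommRingCat.ofHom (TrivSqZeroExt.fstHom k k k).toRingHom))

include hip in
theorem appTop_eta : i.appTop (eta p) = 0 := by
  show i.appTop (p.appTop _) = 0
  rw [← CommRingCat.comp_apply, ← Scheme.Hom.comp_appTop, hip, Scheme.Hom.comp_appTop, CommRingCat.comp_apply]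
  have h := ConcreteCategory.congr_hom (Scheme.ΓSpecIso_inv_naturality
    (CommRingCat.ofHom (TrivSqZeroExt.fstHom k k k).toRingHom)) (DualNumber.eps : DualNumber k)
  refine Eq.trans ?_ (map_zero x.appTop.hom)
  refine congrArg x.appTop (h.symm.trans ?_)
  show (Scheme.ΓSpecIso (CommRingCat.of k)).inv (TrivSqZeroExt.fst (DualNumber.eps : DualNumber k)) = 0
  rw [DualNumber.fst_eps, map_zero]

include hip in
theorem mEta_unit : mEta E q p ≫ (Scheme.Modules.pullbackPushforwardAdjunction i).unit.app (E' E q) = 0 := by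
  refine Scheme.Modules.hom_ext _ _ fun U => ?_
  ext t
  show ((Scheme.Modules.pullbackPushforwardAdjunction i).unit.app (E' E q)).app U ((mEta E q p).app U t) = 0
  rw [smulMod_app, Scheme.Modules.Hom.app_smul]
  show i.app U (Xε.presheaf.map (homOfLE (le_top : U ≤ ⊤)).op (eta p)) •
    (show Γ((Scheme.Modules.pullback i).obj (E' E q), i ⁻¹ᵁ U) from
      ((Scheme.Modules.pullbackPushforwardAdjunction i).unit.app (E' E q)).app U t) = 0
  have h : i.app U (Xε.presheaf.map (homOfLE (le_top : U ≤ ⊤)).op (eta p)) = 0 := by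
    rw [← CommRingCat.comp_apply, i.naturality, CommRingCat.comp_apply]
    show X₀.presheaf.map _ (i.appTop (eta p)) = 0
    rw [appTop_eta hip, map_zero]
  rw [h, zero_smul]

include hip in
theorem j₁_red : j₁ E q p ≫ red E q i = 0 := by
  rw [Category.assoc, ← Functor.map_comp, mEta_unit E hip, Functor.map_zero, comp_zero]

/-- The composite adjunction. -/
abbrev adjC : Scheme.Modules.pullback q ⋙ Scheme.Modules.pullback i ⊣
    Scheme.Modules.pushforward i ⋙ Scheme.Modules.pushforward q :=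
  (Scheme.Modules.pullbackPushforwardAdjunction q).comp (Scheme.Modules.pullbackPushforwardAdjunction i)

include hiq in
theorem isIso_j₀_red : IsIso (j₀ E q ≫ red E q i) := by
  let e : Scheme.Modules.pullback q ⋙ Scheme.Modules.pullback i ≅ 𝟭 X₀.Modules :=
    Scheme.Modules.pullbackComp i q ≪≫ Scheme.Modules.pullbackCongr hiq ≪≫ Scheme.Modules.pullbackId X₀
  haveI : (Scheme.Modules.pullback q ⋙ Scheme.Modules.pullback i).Full := Functor.Full.of_iso e.symm
  haveI : (Scheme.Modules.pullback q ⋙ Scheme.Modules.pullback i).Faithful := Functor.Faithful.of_iso e.symm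
  have h : IsIso ((adjC (q := q) (i := i)).unit.app E) := inferInstance
  rw [adjC, Adjunction.comp_unit_app] at h
  exact h

variable [E.IsQuasicoherent]

include hsq hiq hip in
theorem bijective_app {V : X₀.Opens} (hV : IsAffineOpen V) :
    Function.Injective ((j₁ E q p).app V) ∧ ∀ t : Γ((Scheme.Modules.pushforward q).obj (E' E q), V),
      (red E q i).app V t = 0 → ∃ b, (j₁ E q p).app V b = t := by
  have hj : ∀ b, (j₁ E q p).app V b = (Xε.presheaf.map (homOfLE (le_top : q ⁻¹ᵁ V ≤ ⊤)).op (eta p) : Γ(Xε, q ⁻¹ᵁ V)) •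
      (show Γ(E' E q, q ⁻¹ᵁ V) from (j₀ E q).app V b) := fun b => smulMod_app _ _ _ _
  refine ⟨fun b b' hb => ?_, fun t ht => ?_⟩
  · obtain ⟨ab, -, hu⟩ := existsUnique_decomp hsq E hV ((j₁ E q p).app V b)
    have hz : ∀ y : Γ(E' E q, q ⁻¹ᵁ V), y = (show Γ(E' E q, q ⁻¹ᵁ V) from (j₀ E q).app V 0) + y := fun y =>
      (zero_add y).symm.trans (congrArg (· + y)
        (show (0 : Γ(E' E q, q ⁻¹ᵁ V)) = _ from (map_zero ((j₀ E q).app V).hom).symm))
    have e1 := hu (0, b) ((hj b).trans (hz _))
    have e2 := hu (0, b') ((hb.trans (hj b')).trans (hz _))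
    exact congrArg Prod.snd (e1.trans e2.symm)
  · obtain ⟨⟨a, b⟩, hab, -⟩ := existsUnique_decomp hsq E hV t
    have ht' : t = (j₀ E q).app V a + (j₁ E q p).app V b := hab.trans (congrArg (_ + ·) (hj b).symm)
    rw [ht', map_add] at ht
    have h0 : (red E q i).app V ((j₁ E q p).app V b) = 0 :=
      ConcreteCategory.congr_hom (congrArg (fun m => Scheme.Modules.Hom.app m V) (j₁_red E hip)) b
    rw [h0, add_zero] at ht
    haveI := isIso_j₀_red E hiq
    have ha : a = 0 := (ConcreteCategory.bijective_of_isIso ((j₀ E q ≫ red E q i).app V)).1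
      (ht.trans (map_zero _).symm)
    exact ⟨b, by rw [ht', ha, map_zero, zero_add]⟩

include hsq hiq hip in
theorem isIso_lift : IsIso (kernel.lift (red E q i) (j₁ E q p) (j₁_red E hip)) := by
  refine Stein.isIso_of_bijective_basis _ (fun V => IsAffineOpen V) (fun U z hz => ?_) fun V hV => ?_
  · obtain ⟨W, hW, hzW, hWU⟩ := exists_isAffineOpen_mem_and_subset (x := z) (U := U) hz
    exact ⟨W, hW, hzW, hWU⟩
  · obtain ⟨hinj, hex⟩ := bijective_app E hsq hiq hip hV
    have hfac : ∀ b, (kernel.ι (red E q i)).app V ((kernel.lift _ _ (j₁_red E hip)).app V b) = (j₁ E q p).app V b :=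
      fun b => ConcreteCategory.congr_hom
        (congrArg (fun m => Scheme.Modules.Hom.app m V) (kernel.lift_ι (red E q i) (j₁ E q p) (j₁_red E hip))) b
    refine ⟨fun b b' h => hinj ?_, fun z => ?_⟩
    · rw [← hfac, ← hfac, h]
    · obtain ⟨b, hb⟩ := hex ((kernel.ι (red E q i)).app V z)
        (ConcreteCategory.congr_hom (congrArg (fun m => Scheme.Modules.Hom.app m V) (kernel.condition (red E q i))) z)
      exact ⟨b, (IdealModSec.app_kernel (red E q i) V).1 ((hfac b).trans hb)⟩

include hsq hiq hip in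
theorem existsUnique_factor (h : E ⟶ (Scheme.Modules.pushforward q).obj (E' E q)) (hh : h ≫ red E q i = 0) :
    ∃! β : E ⟶ E, β ≫ j₁ E q p = h := by
  haveI := isIso_lift E hsq hiq hip
  refine ⟨kernel.lift _ h hh ≫ inv (kernel.lift (red E q i) (j₁ E q p) (j₁_red E hip)), ?_, fun β hβ => ?_⟩
  · show _ ≫ j₁ E q p = h
    have hk : inv (kernel.lift (red E q i) (j₁ E q p) (j₁_red E hip)) ≫ j₁ E q p = kernel.ι (red E q i) :=
      (IsIso.inv_comp_eq _).2 (kernel.lift_ι (red E q i) (j₁ E q p) (j₁_red E hip)).symm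
    rw [Category.assoc, hk, kernel.lift_ι]
  · rw [IsIso.eq_comp_inv, ← cancel_mono (kernel.ι (red E q i)), Category.assoc, kernel.lift_ι, kernel.lift_ι, hβ]

variable (q) in
/-- The transpose. -/
abbrev flat' (φ : E' E q ⟶ E' E q) : E ⟶ (Scheme.Modules.pushforward q).obj (E' E q) :=
  j₀ E q ≫ (Scheme.Modules.pushforward q).map φ

omit [E.IsQuasicoherent] in
theorem flat'_injective : Function.Injective (flat' E q) := fun φ ψ h => by
  refine ((Scheme.Modules.pullbackPushforwardAdjunction q).homEquiv E (E' E q)).injective ?_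
  rw [Adjunction.homEquiv_unit, Adjunction.homEquiv_unit]
  exact h

omit [E.IsQuasicoherent] in
theorem map_eq_id_iff (φ : E' E q ⟶ E' E q) :
    (Scheme.Modules.pullback i).map φ = 𝟙 _ ↔ flat' E q φ ≫ red E q i = j₀ E q ≫ red E q i := by
  have key : ∀ ψ : E' E q ⟶ E' E q, flat' E q ψ ≫ red E q i =
      (adjC (q := q) (i := i)).homEquiv E ((Scheme.Modules.pullback i).obj (E' E q)) ((Scheme.Modules.pullback i).map ψ) := by
    intro ψ
    rw [Adjunction.homEquiv_unit, adjC, Adjunction.comp_unit_app, Category.assoc, ← Functor.map_comp]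
    refine Eq.trans ?_ (Category.assoc _ _ _).symm
    refine congrArg (j₀ E q ≫ ·) ?_
    refine Eq.trans ?_ (Functor.map_comp _ _ _)
    exact congrArg (Scheme.Modules.pushforward q).map
      ((Scheme.Modules.pullbackPushforwardAdjunction i).unit.naturality ψ)
  constructor
  · intro h
    rw [key, h, ← CategoryTheory.Functor.map_id (Scheme.Modules.pullback i), ← key, flat', CategoryTheory.Functor.map_id, Category.comp_id]
  · intro h
    refine ((adjC (q := q) (i := i)).homEquiv E _).injective ?_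
    rw [← key, h, ← CategoryTheory.Functor.map_id (Scheme.Modules.pullback i), ← key, flat', CategoryTheory.Functor.map_id, Category.comp_id]

omit [E.IsQuasicoherent] in
theorem flat'_comp (φ ψ : E' E q ⟶ E' E q) (a b : E ⟶ E) (hφ : flat' E q φ = j₀ E q + a ≫ j₁ E q p)
    (hψ : flat' E q ψ = j₀ E q + b ≫ j₁ E q p) :
    flat' E q (φ ≫ ψ) = j₀ E q + (a + b) ≫ j₁ E q p := by
  have h1 : j₁ E q p ≫ (Scheme.Modules.pushforward q).map ψ = j₁ E q p := by
    rw [Category.assoc, ← Functor.map_comp, ← smulMod_natural, Functor.map_comp, ← Category.assoc,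
      show j₀ E q ≫ (Scheme.Modules.pushforward q).map ψ = _ from hψ, Preadditive.add_comp, Category.assoc,
      Category.assoc, ← Functor.map_comp, mEta_mEta, Functor.map_zero, comp_zero, comp_zero, add_zero]
  show j₀ E q ≫ (Scheme.Modules.pushforward q).map (φ ≫ ψ) = _
  rw [Functor.map_comp, ← Category.assoc, show j₀ E q ≫ (Scheme.Modules.pushforward q).map φ = _ from hφ,
    Preadditive.add_comp, Category.assoc, h1, show j₀ E q ≫ (Scheme.Modules.pushforward q).map ψ = _ from hψ,
    Preadditive.add_comp]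
  abel

include hsq hiq hip in
theorem exists_equiv :
    ∃ e : {φ : E' E q ≅ E' E q // (Scheme.Modules.pullback i).map φ.hom = 𝟙 _} ≃ (E ⟶ E),
      ∀ φ ψ χ : {φ : E' E q ≅ E' E q // (Scheme.Modules.pullback i).map φ.hom = 𝟙 _},
        φ.1 ≪≫ ψ.1 = χ.1 → e χ = e φ + e ψ := by
  let adj := (Scheme.Modules.pullbackPushforwardAdjunction q).homEquiv E (E' E q)
  have hadj : ∀ φ, adj φ = flat' E q φ := fun φ => Adjunction.homEquiv_unit _ _ _ _
  let mk : (E ⟶ E) → (E' E q ⟶ E' E q) := fun b => adj.symm (j₀ E q + b ≫ j₁ E q p)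
  have hmk : ∀ b, flat' E q (mk b) = j₀ E q + b ≫ j₁ E q p := fun b =>
    (hadj _).symm.trans (adj.apply_symm_apply _)
  have hinv : ∀ b, mk b ≫ mk (-b) = 𝟙 _ := fun b => flat'_injective E <| by
    rw [flat'_comp E (p := p) _ _ _ _ (hmk b) (hmk (-b)), add_neg_cancel, zero_comp, add_zero, flat',
      CategoryTheory.Functor.map_id, Category.comp_id]
  have hj := j₁_red E (q := q) hip
  let inv' : (E ⟶ E) → {φ : E' E q ≅ E' E q // (Scheme.Modules.pullback i).map φ.hom = 𝟙 _} := fun b =>
    ⟨⟨mk b, mk (-b), hinv b, by simpa using hinv (-b)⟩, (map_eq_id_iff E _).2 (by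
      show flat' E q (mk b) ≫ _ = _
      rw [hmk, Preadditive.add_comp, Category.assoc, hj, comp_zero, add_zero])⟩
  have hf : ∀ φ : {φ : E' E q ≅ E' E q // (Scheme.Modules.pullback i).map φ.hom = 𝟙 _},
      ∃! b : E ⟶ E, b ≫ j₁ E q p = flat' E q φ.1.hom - j₀ E q := fun φ =>
    existsUnique_factor E hsq hiq hip _ (by
      rw [Preadditive.sub_comp, (map_eq_id_iff E _).1 φ.2, sub_self])
  choose f hf1 hf2 using hf
  have hflat : ∀ φ, flat' E q φ.1.hom = j₀ E q + f φ ≫ j₁ E q p := fun φ => by rw [hf1]; abel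
  refine ⟨⟨f, inv', fun φ => Subtype.ext (Iso.ext (flat'_injective E ?_)), fun b => (hf2 _ b ?_).symm⟩,
    fun φ ψ χ h => (hf2 χ _ ?_).symm⟩
  · show flat' E q (mk (f φ)) = _
    rw [hmk, hflat]
  · show b ≫ j₁ E q p = flat' E q (mk b) - j₀ E q
    rw [hmk]; abel
  · show (f φ + f ψ) ≫ j₁ E q p = _
    have hc : χ.1.hom = φ.1.hom ≫ ψ.1.hom := by rw [← h]; rfl
    rw [hc, flat'_comp E (p := p) _ _ _ _ (hflat φ) (hflat ψ)]
    abel

end GrothLib.AutEps4
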